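import Cfsg.Agent.CosetEnum.Suz.G24.Data

/-! Generated: checks of the rows. -/

set_option autoImplicit false
set_option maxRecDepth 100000

namespace CfsgLib.CosetEnum.Suz.G24

open CfsgLib.CosetEnum

theorem rows0 : allFrom (checkRow epF (fun x => x) 21023 7 nodeF TF tfF 1782) 0 256 = true := by
  decide +kernel

theorem rows256 : allFrom (checkRow epF (fun x => x) 21023 7 nodeF TF tfF 1782) 256 256 = true := by
  decide +kernel

theorem rows512 : allFrom (checkRow epF (fun x => x) 21023 7 nodeF TF tfF 1782) 512 256 = true := by
  decide +kernel

theorem rows768 : allFrom (checkRow epF (fun x => x) 21023 7 nodeF TF tfF 1782) 768 256 = true := by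
  decide +kernel

theorem rows1024 : allFrom (checkRow epF (fun x => x) 21023 7 nodeF TF tfF 1782) 1024 256 = true := by
  decide +kernel

theorem rows1280 : allFrom (checkRow epF (fun x => x) 21023 7 nodeF TF tfF 1782) 1280 256 = true := by
  decide +kernel

theorem rows1536 : allFrom (checkRow epF (fun x => x) 21023 7 nodeF TF tfF 1782) 1536 246 = true := by
  decide +kernel

end CfsgLib.CosetEnum.Suz.G24
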